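import Groth.Agent.Lib.Ample.ProjSections
import Groth.Agent.Lib.InvExt.UFD
import Mathlib.RingTheory.Polynomial.UniqueFactorization

/-!
# The standard charts of projective space are affine spaces; invertible modules are free on them
-/

universe u

set_option backward.isDefEq.respectTransparency false

open AlgebraicGeometry CategoryTheory TopologicalSpace Opposite MvPolynomial HomogeneousLocalization
open GrothLib.InvExt (mres IsGen)

noncomputable section

namespace GrothLib.ProjPic26

variable {R : Type u} [CommRing R] {n : ℕ}

local notation "P" => CohB1.polyGrading n R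

/-- Setting one coordinate equal to one. -/
def deh (j : Fin (n + 1)) : MvPolynomial (Fin (n + 1)) R →ₐ[R] MvPolynomial (Fin n) R :=
  aeval (Fin.insertNth j 1 X)

theorem isUnit_deh_X (j : Fin (n + 1)) : IsUnit ((deh (R := R) j).toRingHom (X j)) := by simp [deh]

/-- The affine space as a chart. -/
def affChart (j : Fin (n + 1)) : MvPolynomial (Fin n) R →+* Away P (X j) :=
  eval₂Hom (Ample.ProjMap.cst (X j)) fun l => Ample.ProjMap.ratio j (j.succAbove l)

theorem affChart_bijective (j : Fin (n + 1)) : Function.Bijective (affChart (R := R) j) := by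
  constructor
  · let ev := ProjPt.evalAway P (deh (R := R) j).toRingHom (X j) (isUnit_deh_X j)
    have hid : ev.comp (affChart j) = RingHom.id _ := by
      refine ringHom_ext (fun r => ?_) fun l => ?_
      · simp only [RingHom.comp_apply, affChart, eval₂Hom_C, RingHom.id_apply, ev]
        rw [Ample.ProjMap.evalAway_cst]
        simp [deh]
      · simp only [RingHom.comp_apply, affChart, eval₂Hom_X', RingHom.id_apply, ev]
        have h := Ample.ProjMap.evalAway_ratio (deh (R := R) j).toRingHom j (j.succAbove l) (isUnit_deh_X j)
        simpa [deh] using h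
    exact Function.LeftInverse.injective (g := ev) fun a => RingHom.congr_fun hid a
  · intro w
    obtain ⟨a, rfl⟩ := Ample.ProjMap.exists_eval_ratio j w
    refine ⟨deh j a, ?_⟩
    have : (affChart j).comp (deh (R := R) j).toRingHom = eval₂Hom (Ample.ProjMap.cst (X j)) (Ample.ProjMap.ratio j) := by
      refine ringHom_ext (fun r => by simp [deh, affChart]) fun l => ?_
      obtain rfl | ⟨m, rfl⟩ := Fin.eq_self_or_eq_succAbove j l
      · simp only [RingHom.comp_apply, AlgHom.toRingHom_eq_coe, RingHom.coe_coe, deh, aeval_X,
          Fin.insertNth_apply_same, map_one, eval₂Hom_X']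
        refine HomogeneousLocalization.val_injective _ ?_
        rw [HomogeneousLocalization.val_one]
        refine (IsLocalization.map_units _ (⟨X l, 1, pow_one _⟩ :
          Submonoid.powers (X l : MvPolynomial (Fin (n + 1)) R))).mul_left_injective ?_
        simp only [one_mul, Ample.ProjMap.ratio_val]
      · simp [deh, affChart]
    exact RingHom.congr_fun this a

theorem isUFD_away [IsDomain R] [UniqueFactorizationMonoid R] (j : Fin (n + 1)) :
    ∃ _ : IsDomain (Away P (X j : MvPolynomial (Fin (n + 1)) R)),
      UniqueFactorizationMonoid (Away P (X j : MvPolynomial (Fin (n + 1)) R)) := by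
  let e : MvPolynomial (Fin n) R ≃+* Away P (X j) := RingEquiv.ofBijective _ (affChart_bijective j)
  exact ⟨e.symm.toMulEquiv.isDomain _, e.toMulEquiv.uniqueFactorizationMonoid inferInstance⟩

/-- An invertible module on projective space over a UFD has a generator on every standard chart. -/
theorem exists_gen_chart [IsDomain R] [UniqueFactorizationMonoid R] {M : (CohB1.ProjSpace n R).Modules}
    (hM : PicF.IsInvertible M) (j : Fin (n + 1)) :
    ∃ e : Γ(M, Proj.basicOpen P (X j)), IsGen M (Proj.basicOpen P (X j)) e := by
  obtain ⟨_, _⟩ := isUFD_away (R := R) (n := n) j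
  let ι := Proj.awayι P (X j) (Ample.ProjMap.X_mem j) one_pos
  obtain ⟨s, hs⟩ := InvExt.exists_gen_of_local (R := CommRingCat.of (Away P (X j))) (M.restrict ι) ⊤
    fun x _ => by
      obtain ⟨V, e, hx, he⟩ := InvExt.exists_gen_nhd hM (ι x)
      have hle : ι ''ᵁ (ι ⁻¹ᵁ V) ≤ V := by
        rw [ι.image_preimage_eq_opensRange_inf]; exact inf_le_right
      exact ⟨ι ⁻¹ᵁ V, _, hx, le_top, InvExt.isGen_restrict ι M (he.restrict hle)⟩
  have h1 : ι ''ᵁ ⊤ = Proj.basicOpen P (X j) :=
    ι.image_top_eq_opensRange.trans (Proj.opensRange_awayι P _ _ _)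
  exact ⟨_, (InvExt.isGen_image ι M hs).restrict h1.ge⟩

end GrothLib.ProjPic26
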