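import Groth.Agent.Lib.ProjPic26.Units
import Groth.Agent.Lib.ProjPic26.Chart
import Groth.Agent.Lib.InvExt.Transfer
import Groth.Agent.Lib.GrTilde.NegTwist

/-!
# The Picard group of projective space over a UFD
-/

universe u

set_option backward.isDefEq.respectTransparency false
set_option maxHeartbeats 120000

open AlgebraicGeometry CategoryTheory TopologicalSpace Opposite MvPolynomial
open GrothLib.Ample (res)
open GrothLib.InvExt (mres IsGen)

noncomputable section

namespace GrothLib.ProjPic26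

variable {R : Type u} [CommRing R] [IsDomain R] {n : ℕ}

local notation "P" => CohB1.polyGrading n R
local notation "K" => Rat R (Fin (n + 1))

variable (R n) in
/-- A standard chart. -/
abbrev Dp (i : Fin (n + 1)) : (Proj (CohB1.polyGrading n R)).Opens :=
  Proj.basicOpen (CohB1.polyGrading n R) (X i)

theorem W2_le_left (i j : Fin (n + 1)) : W2 R n i j ≤ Dp R n i := by
  rw [W2, Proj.basicOpen_mul]; exact inf_le_left

theorem W2_le_right (i j : Fin (n + 1)) : W2 R n i j ≤ Dp R n j := by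
  rw [W2, Proj.basicOpen_mul]; exact inf_le_right

theorem le_W2 {i j : Fin (n + 1)} {W : (Proj P).Opens} (hi : W ≤ Dp R n i) (hj : W ≤ Dp R n j) :
    W ≤ W2 R n i j := by
  rw [W2, Proj.basicOpen_mul]; exact le_inf hi hj

/-- A constant as a section of the structure sheaf. -/
def cSec (V : (Proj P).Opens) (c : R) : Γ(Proj P, V) :=
  Ample.ProjTwist.fracO (j := 0) (C c) 1 (isHomogeneous_C _ c) SetLike.GradedOne.one_mem
    fun y => GrTilde.one_notMem y.1

theorem evK_cSec {V : (Proj P).Opens} (h : genPt R n ∈ V) (c : R) : evK h (cSec V c) = con c := by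
  show toK (Ample.ProjTwist.ev (⟨genPt R n, h⟩ : V) (cSec V c)) = _
  rw [cSec, Ample.ProjTwist.ev_fracO]
  have h1 := toK_mk (R := R) (n := n) (C c) ⟨1, GrTilde.one_notMem _⟩
  simp only [map_one, mul_one] at h1
  exact h1

theorem cSec_mul_cSec (V : (Proj P).Opens) (c c' : R) (h : c * c' = 1) : cSec V c * cSec V c' = 1 := by
  refine Ample.ProjTwist.ev_ext fun y => ?_
  rw [Ample.ProjTwist.ev_mul, cSec, cSec, Ample.ProjTwist.ev_fracO, Ample.ProjTwist.ev_fracO,
    Ample.ProjTwist.ev_one, Localization.mk_mul, ← map_mul, h, map_one]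
  refine Eq.trans (congrArg (Localization.mk (1 : MvPolynomial (Fin (n + 1)) R)) ?_) Localization.mk_one
  exact Subtype.ext (mul_one 1)

theorem res_cSec {V W : (Proj P).Opens} (h : W ≤ V) (c : R) : res h (cSec V c) = cSec W c := by
  refine Ample.ProjTwist.ev_ext fun y => ?_
  rw [Ample.ProjTwist.ev_res, cSec, cSec, Ample.ProjTwist.ev_fracO, Ample.ProjTwist.ev_fracO]

theorem evK_G {i j : ULift.{u} (Fin (n + 1))} {W : (Proj P).Opens} (hi : W ≤ (Ample.ProjMap.pcoc n R).D i)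
    (hj : W ≤ (Ample.ProjMap.pcoc n R).D j) (h : genPt R n ∈ W) :
    evK h ((Ample.ProjMap.pcoc n R).G i j hi hj) = mono (δ i.down j.down) := by
  rw [mono_δ, eq_div_iff (xv_ne_zero _)]
  show toK (Ample.ProjTwist.ev (⟨genPt R n, h⟩ : W) ((Ample.ProjMap.pcoc n R).G i j hi hj)) * xv i.down = xv j.down
  refine (congrArg (toK · * xv i.down) (Ample.ProjTwist.ev_G P (fun l : ULift.{u} (Fin (n + 1)) => X l.down)
    (fun l => Ample.ProjMap.X_mem l.down) _ i j hi hj ⟨genPt R n, h⟩)).trans ?_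
  exact toK_mk (X j.down) ⟨X i.down, hi h⟩

/-- `M` has generators on the standard charts with the transition functions of `O(d)`. -/
def HasDeg (M : (Proj (CohB1.polyGrading n R)).Modules) (d : ℤ) : Prop :=
  ∃ e : ∀ i, Γ(M, Dp R n i), (∀ i, IsGen M (Dp R n i) (e i)) ∧ ∀ i j, ∃ r : Γ(Proj P, W2 R n i j),
    mres M (W2_le_right i j) (e j) = r • mres M (W2_le_left i j) (e i) ∧
      evK (genPt_mem_W2 i j) r = mono (d • δ i j)

theorem hasDeg_of_iso {M M' : (Proj (CohB1.polyGrading n R)).Modules} (φ : M ≅ M') {d : ℤ} (h : HasDeg M d) :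
    HasDeg M' d := by
  obtain ⟨e, he, hr⟩ := h
  refine ⟨fun i => φ.hom.app _ (e i), fun i => (he i).map φ.hom fun W _ => ?_, fun i j => ?_⟩
  · exact Function.bijective_iff_has_inverse.mpr ⟨φ.inv.app W,
      fun m => by
        show (φ.hom ≫ φ.inv).app W m = m
        rw [Iso.hom_inv_id]; rfl,
      fun m => by
        show (φ.inv ≫ φ.hom).app W m = m
        rw [Iso.inv_hom_id]; rfl⟩
  · obtain ⟨r, h1, h2⟩ := hr i j
    refine ⟨r, ?_, h2⟩
    rw [InvExt.mres_app, InvExt.mres_app, h1, Scheme.Modules.Hom.app_smul]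

/-- Transition functions exist and are units. -/
theorem exists_transition {M : (Proj (CohB1.polyGrading n R)).Modules} {e : ∀ i, Γ(M, Dp R n i)}
    (he : ∀ i, IsGen M (Dp R n i) (e i)) (i j : Fin (n + 1)) :
    ∃ r : Γ(Proj P, W2 R n i j), IsUnit r ∧
      mres M (W2_le_right i j) (e j) = r • mres M (W2_le_left i j) (e i) := by
  obtain ⟨r, hr⟩ := (he i).exists_smul_eq (W2_le_left i j) (mres M (W2_le_right i j) (e j))
  obtain ⟨r', hr'⟩ := (he j).exists_smul_eq (W2_le_right i j) (mres M (W2_le_left i j) (e i))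
  refine ⟨r, IsUnit.of_mul_eq_one r' ((he j).smul_left_injective (W2_le_right i j) ?_), hr⟩
  show (r * r') • mres M (W2_le_right i j) (e j) = (1 : Γ(Proj P, W2 R n i j)) • _
  rw [mul_smul, ← hr', ← hr, one_smul]

theorem evK_trans {M : (Proj (CohB1.polyGrading n R)).Modules} {e : ∀ i, Γ(M, Dp R n i)}
    (he : ∀ i, IsGen M (Dp R n i) (e i)) {i j k : Fin (n + 1)} {r₁ : Γ(Proj P, W2 R n i j)}
    {r₂ : Γ(Proj P, W2 R n j k)} {r₃ : Γ(Proj P, W2 R n i k)}
    (h₁ : mres M (W2_le_right i j) (e j) = r₁ • mres M (W2_le_left i j) (e i))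
    (h₂ : mres M (W2_le_right j k) (e k) = r₂ • mres M (W2_le_left j k) (e j))
    (h₃ : mres M (W2_le_right i k) (e k) = r₃ • mres M (W2_le_left i k) (e i)) :
    evK (genPt_mem_W2 i j) r₁ * evK (genPt_mem_W2 j k) r₂ = evK (genPt_mem_W2 i k) r₃ := by
  let W : (Proj P).Opens := W2 R n i j ⊓ W2 R n j k
  have hi : W ≤ Dp R n i := inf_le_left.trans (W2_le_left i j)
  have hk : W ≤ Dp R n k := inf_le_right.trans (W2_le_right j k)
  have hW3 : W ≤ W2 R n i k := le_W2 hi hk
  have hg : genPt R n ∈ W := ⟨genPt_mem_W2 i j, genPt_mem_W2 j k⟩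
  have e1 := congrArg (mres M (inf_le_left : W ≤ W2 R n i j)) h₁
  have e2 := congrArg (mres M (inf_le_right : W ≤ W2 R n j k)) h₂
  have e3 := congrArg (mres M hW3) h₃
  simp only [InvExt.mres_mres, Ample.mres_smul'] at e1 e2 e3
  have key : res (inf_le_left : W ≤ W2 R n i j) r₁ * res (inf_le_right : W ≤ W2 R n j k) r₂ =
      res hW3 r₃ := (he i).smul_left_injective hi (by
    show _ • mres M hi (e i) = _ • mres M hi (e i)
    rw [mul_comm, mul_smul, ← e1, ← e2, e3])
  have h := congrArg (evK hg) key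
  rw [map_mul] at h
  exact h

/-- Every invertible module has a degree. -/
theorem exists_hasDeg [UniqueFactorizationMonoid R] {M : (Proj (CohB1.polyGrading n R)).Modules}
    (hM : PicF.IsInvertible M) : ∃ d, HasDeg M d := by
  classical
  choose e he using exists_gen_chart hM
  choose r hru hr using exists_transition he
  choose c m hc hcm using fun i j => exists_eq_of_isUnit i j (hru i j)
  let v : Fin (n + 1) → Fin (n + 1) → K := fun i j => evK (genPt_mem_W2 i j) (r i j)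
  have htr : ∀ i j k, v i j * v j k = v i k := fun i j k => evK_trans he (hr i j) (hr j k) (hr i k)
  obtain ⟨d, hd⟩ : ∃ d, ∀ j : Fin (n + 1), j ≠ 0 → m 0 j = d := by
    by_cases h0 : ∃ j₀ : Fin (n + 1), j₀ ≠ 0
    · obtain ⟨j₀, hj₀⟩ := h0
      refine ⟨m 0 j₀, fun j hj => ?_⟩
      rcases eq_or_ne j₀ j with rfl | hne
      · rfl
      have h := htr 0 j₀ j
      simp only [v, hcm] at h
      rw [mul_mul_mul_comm, ← map_mul, ← mono_add] at h
      have hz := (eq_of_con_mul_mono ((hc 0 j₀).mul (hc j₀ j)).ne_zero h).1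
      have h1 := congrFun hz j₀
      have h2 := congrFun hz j
      simp [δ, Pi.single_eq_of_ne hne, Pi.single_eq_of_ne hne.symm, Pi.single_eq_of_ne hj,
        Pi.single_eq_of_ne hj₀] at h1 h2
      omega
    · exact ⟨0, fun j hj => absurd ⟨j, hj⟩ h0⟩
  have hv : ∀ j, ∃ a : R, IsUnit a ∧ v 0 j = con a * mono (d • δ 0 j) := fun j => by
    rcases eq_or_ne j 0 with rfl | hj
    · refine ⟨1, isUnit_one, ?_⟩
      have h := htr 0 0 0
      have hne : v 0 0 ≠ 0 := by
        simp only [v, hcm]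
        exact mul_ne_zero ((hc 0 0).map con).ne_zero (mono_ne_zero _)
      rw [δ_self, smul_zero, mono_zero, map_one, mul_one]
      exact mul_left_cancel₀ hne (h.trans (mul_one _).symm)
    · exact ⟨c 0 j, hc 0 j, by rw [← hd j hj]; exact hcm 0 j⟩
  choose a ha hav using hv
  choose b hb using fun j => (ha j).exists_right_inv
  refine ⟨d, fun j => cSec _ (b j) • e j, fun j => (he j).smul_unit
    (IsUnit.of_mul_eq_one _ (cSec_mul_cSec _ (b j) (a j) (mul_comm (a j) (b j) ▸ hb j))), fun i j => ?_⟩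
  refine ⟨cSec _ (b j) * r i j * cSec _ (a i), ?_, ?_⟩
  · rw [Ample.mres_smul', Ample.mres_smul', hr, smul_smul, smul_smul]
    congr 1
    rw [res_cSec, res_cSec, mul_assoc, cSec_mul_cSec _ _ _ (hb i), mul_one]
  · rw [map_mul, map_mul, evK_cSec, evK_cSec]
    have h := htr 0 i j
    rw [hav i, hav j] at h
    have e1 : con (a j) * con (b j) = (1 : K) := by rw [← map_mul, hb, map_one]
    have e2 : mono (R := R) (d • δ 0 i) * mono (d • δ i j) = mono (d • δ 0 j) := by
      rw [← mono_add, ← smul_add, δ_add]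
    refine mul_left_cancel₀ (mono_ne_zero (R := R) (d • δ 0 i)) ?_
    rw [e2]
    show _ * (con (b j) * v i j * con (a i)) = _
    linear_combination con (b j) * h + mono (R := R) (d • δ 0 j) * e1

theorem eq_G_pow {M : (Proj (CohB1.polyGrading n R)).Modules} {d : ℤ} {e : ∀ i, Γ(M, Dp R n i)}
    (g : ∀ i j, Γ(Proj P, W2 R n i j)) (hg : ∀ i j, evK (genPt_mem_W2 i j) (g i j) = mono (d • δ i j))
    (hr : ∀ i j, ∃ r : Γ(Proj P, W2 R n i j),
      mres M (W2_le_right i j) (e j) = r • mres M (W2_le_left i j) (e i) ∧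
        evK (genPt_mem_W2 i j) r = mono (d • δ i j))
    {i j : Fin (n + 1)} {W : (Proj P).Opens} (hi : W ≤ Dp R n i) (hj : W ≤ Dp R n j) :
    mres M hj (e j) = res (le_W2 hi hj) (g i j) • mres M hi (e i) := by
  obtain ⟨r, h1, h2⟩ := hr i j
  have hrg : r = g i j :=
    evK_injective (X_mul_X_mem i j) two_pos (X_mul_X_ne_zero i j) (h2.trans (hg i j).symm)
  have h := congrArg (mres M (le_W2 hi hj)) h1
  rw [Ample.mres_smul', InvExt.mres_mres, InvExt.mres_mres, hrg] at h
  exact h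

/-- A module with the degree `d` is `O(d)`. -/
theorem nonempty_iso_twist_of_hasDeg {M : (Proj (CohB1.polyGrading n R)).Modules} {d : ℤ} (h : HasDeg M d) :
    Nonempty (M ≅ Twist.twist P d) := by
  obtain ⟨e, he, hr⟩ := h
  let c := Ample.ProjMap.pcoc n R
  rcases Int.eq_nat_or_neg d with ⟨k, rfl | rfl⟩
  · have hfam : c.IsFamily k (M := M) fun i => e i.down := fun i j W hi hj => by
      refine (eq_G_pow (fun p q => c.G ⟨p⟩ ⟨q⟩ (W2_le_left p q) (W2_le_right p q) ^ k)
        (fun p q => by rw [map_pow, evK_G, mono_zsmul, zpow_natCast]) hr hi hj).trans ?_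
      rw [map_pow, Ample.Cocycle.res_G]
      rfl
    haveI := c.isIso_homOfFamily hfam fun i => he i.down
    haveI := Ample.ProjTwist.isIso_toTwist P (fun i : ULift.{u} (Fin (n + 1)) => X i.down)
      (fun i => Ample.ProjMap.X_mem i.down) c.cover k
    exact ⟨(asIso (c.homOfFamily hfam)).symm ≪≫ asIso (Ample.ProjTwist.toTwist P
      (fun i : ULift.{u} (Fin (n + 1)) => X i.down) (fun i => Ample.ProjMap.X_mem i.down) c.cover k)⟩
  · have hfam : c.inv.IsFamily k (M := M) fun i => e i.down := fun i j W hi hj => by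
      refine (eq_G_pow (fun p q => c.G ⟨q⟩ ⟨p⟩ (W2_le_right p q) (W2_le_left p q) ^ k)
        (fun p q => by
          rw [map_pow, evK_G, mono_zsmul, zpow_neg, zpow_natCast, ← inv_pow, mono_δ, mono_δ, inv_div])
        hr hi hj).trans ?_
      rw [map_pow, Ample.Cocycle.res_G, Ample.Cocycle.inv_G]
      rfl
    haveI := c.inv.isIso_homOfFamily hfam fun i => he i.down
    obtain ⟨φ⟩ := GrTilde.nonempty_inv_twist_iso P (fun i : ULift.{u} (Fin (n + 1)) => X i.down)
      (fun i => Ample.ProjMap.X_mem i.down) c.cover k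
    exact ⟨(asIso (c.inv.homOfFamily hfam)).symm ≪≫ φ⟩

/-- `O(d)` has the degree `d`. -/
theorem hasDeg_twist (d : ℤ) : HasDeg (Twist.twist P d) d := by
  let c := Ample.ProjMap.pcoc n R
  rcases Int.eq_nat_or_neg d with ⟨k, rfl | rfl⟩
  · haveI := Ample.ProjTwist.isIso_toTwist P (fun i : ULift.{u} (Fin (n + 1)) => X i.down)
      (fun i => Ample.ProjMap.X_mem i.down) c.cover k
    refine hasDeg_of_iso (asIso (Ample.ProjTwist.toTwist P (fun i : ULift.{u} (Fin (n + 1)) => X i.down)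
      (fun i => Ample.ProjMap.X_mem i.down) c.cover k))
      ⟨fun i => c.base k ⟨i⟩ le_rfl, fun i => c.isGen_base k ⟨i⟩ le_rfl, fun i j =>
        ⟨c.G ⟨i⟩ ⟨j⟩ (W2_le_left i j) (W2_le_right i j) ^ k, ?_,
          by rw [map_pow, evK_G, mono_zsmul, zpow_natCast]⟩⟩
    show c.sectRes (W2_le_right i j) (c.base k ⟨j⟩ le_rfl) =
      c.G ⟨i⟩ ⟨j⟩ (W2_le_left i j) (W2_le_right i j) ^ k • c.sectRes (W2_le_left i j) (c.base k ⟨i⟩ le_rfl)
    rw [Ample.Cocycle.sectRes_base, Ample.Cocycle.sectRes_base]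
    exact c.base_eq_smul_base k ⟨i⟩ ⟨j⟩ _ _
  · obtain ⟨φ⟩ := GrTilde.nonempty_inv_twist_iso P (fun i : ULift.{u} (Fin (n + 1)) => X i.down)
      (fun i => Ample.ProjMap.X_mem i.down) c.cover k
    refine hasDeg_of_iso φ
      ⟨fun i => c.inv.base k ⟨i⟩ le_rfl, fun i => c.inv.isGen_base k ⟨i⟩ le_rfl, fun i j =>
        ⟨c.inv.G ⟨i⟩ ⟨j⟩ (W2_le_left i j) (W2_le_right i j) ^ k, ?_, ?_⟩⟩
    · show c.inv.sectRes (W2_le_right i j) (c.inv.base k ⟨j⟩ le_rfl) =
        c.inv.G ⟨i⟩ ⟨j⟩ (W2_le_left i j) (W2_le_right i j) ^ k •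
          c.inv.sectRes (W2_le_left i j) (c.inv.base k ⟨i⟩ le_rfl)
      rw [Ample.Cocycle.sectRes_base, Ample.Cocycle.sectRes_base]
      exact c.inv.base_eq_smul_base k ⟨i⟩ ⟨j⟩ _ _
    · rw [map_pow, Ample.Cocycle.inv_G, evK_G, mono_zsmul, zpow_neg, zpow_natCast, ← inv_pow, mono_δ, mono_δ,
        inv_div]

/-- Two generators on a chart differ by a constant. -/
theorem exists_const_ratio {M : (Proj (CohB1.polyGrading n R)).Modules} (i : Fin (n + 1))
    {e e' : Γ(M, Dp R n i)} (he : IsGen M (Dp R n i) e) (he' : IsGen M (Dp R n i) e') :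
    ∃ (u : Γ(Proj P, W2 R n i i)) (a : R), IsUnit a ∧
      mres M (W2_le_left i i) e' = u • mres M (W2_le_left i i) e ∧ evK (genPt_mem_W2 i i) u = con a := by
  obtain ⟨u, hu⟩ := he.exists_smul_eq (W2_le_left i i) (mres M (W2_le_left i i) e')
  obtain ⟨u', hu'⟩ := he'.exists_smul_eq (W2_le_left i i) (mres M (W2_le_left i i) e)
  have huu : u * u' = 1 := he'.smul_left_injective (W2_le_left i i) (by
    show (u * u') • mres M (W2_le_left i i) e' = (1 : Γ(Proj P, W2 R n i i)) • mres M (W2_le_left i i) e'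
    rw [mul_smul, ← hu', ← hu, one_smul])
  obtain ⟨a, q, ha, hq⟩ := exists_eq_of_isUnit i i (IsUnit.of_mul_eq_one _ huu)
  exact ⟨u, a, ha, hu, by rw [hq, δ_self, smul_zero, mono_zero, mul_one]⟩

theorem evK_ratio_rel {M : (Proj (CohB1.polyGrading n R)).Modules} {i j : Fin (n + 1)}
    {e₀ e₀' : Γ(M, Dp R n i)} {e₁ e₁' : Γ(M, Dp R n j)} (he₀ : IsGen M (Dp R n i) e₀)
    {r r' : Γ(Proj P, W2 R n i j)} {u₀ : Γ(Proj P, W2 R n i i)} {u₁ : Γ(Proj P, W2 R n j j)}
    (h : mres M (W2_le_right i j) e₁ = r • mres M (W2_le_left i j) e₀)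
    (h' : mres M (W2_le_right i j) e₁' = r' • mres M (W2_le_left i j) e₀')
    (hu₀ : mres M (W2_le_left i i) e₀' = u₀ • mres M (W2_le_left i i) e₀)
    (hu₁ : mres M (W2_le_left j j) e₁' = u₁ • mres M (W2_le_left j j) e₁) :
    evK (genPt_mem_W2 i j) r' * evK (genPt_mem_W2 i i) u₀ =
      evK (genPt_mem_W2 j j) u₁ * evK (genPt_mem_W2 i j) r := by
  have l0 : W2 R n i j ≤ W2 R n i i := le_W2 (W2_le_left i j) (W2_le_left i j)
  have l1 : W2 R n i j ≤ W2 R n j j := le_W2 (W2_le_right i j) (W2_le_right i j)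
  have e0 := congrArg (mres M l0) hu₀
  have e1 := congrArg (mres M l1) hu₁
  rw [Ample.mres_smul', InvExt.mres_mres, InvExt.mres_mres] at e0 e1
  have key : r' * res l0 u₀ = res l1 u₁ * r := he₀.smul_left_injective (W2_le_left i j) (by
    show (r' * res l0 u₀) • mres M (W2_le_left i j) e₀ = (res l1 u₁ * r) • mres M (W2_le_left i j) e₀
    rw [mul_smul, mul_smul, ← e0, ← h', ← h, e1])
  have hK := congrArg (evK (genPt_mem_W2 i j)) key
  rw [map_mul, map_mul] at hK
  exact hK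

/-- The degree is unique in positive dimension. -/
theorem hasDeg_unique (hn : 1 ≤ n) {M : (Proj (CohB1.polyGrading n R)).Modules} {d d' : ℤ} (h : HasDeg M d)
    (h' : HasDeg M d') : d = d' := by
  obtain ⟨e, he, hr⟩ := h
  obtain ⟨e', he', hr'⟩ := h'
  let j : Fin (n + 1) := ⟨1, by omega⟩
  have hj : j ≠ 0 := fun h => one_ne_zero (congrArg Fin.val h)
  obtain ⟨r, h1, h2⟩ := hr 0 j
  obtain ⟨r', h1', h2'⟩ := hr' 0 j
  obtain ⟨u₀, a₀, ha₀, hu₀, hK₀⟩ := exists_const_ratio 0 (he 0) (he' 0)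
  obtain ⟨u₁, a₁, -, hu₁, hK₁⟩ := exists_const_ratio j (he j) (he' j)
  have hK := evK_ratio_rel (he 0) h1 h1' hu₀ hu₁
  rw [hK₀, hK₁, h2, h2', mul_comm] at hK
  have hz := congrFun (eq_of_con_mul_mono ha₀.ne_zero hK).1 j
  simp only [Pi.smul_apply, δ, Pi.sub_apply, Pi.single_eq_same, Pi.single_eq_of_ne hj, sub_zero,
    smul_eq_mul, mul_one] at hz
  exact hz.symm

theorem exists_iso_twist [UniqueFactorizationMonoid R] {M : (Proj (CohB1.polyGrading n R)).Modules}
    (hM : PicF.IsInvertible M) : ∃ d, Nonempty (M ≅ Twist.twist P d) := by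
  obtain ⟨d, h⟩ := exists_hasDeg hM
  exact ⟨d, nonempty_iso_twist_of_hasDeg h⟩

theorem eq_of_twist_iso (hn : 1 ≤ n) {d d' : ℤ}
    (φ : Twist.twist P d ≅ Twist.twist P d') : d = d' :=
  hasDeg_unique hn (hasDeg_of_iso φ (hasDeg_twist d)) (hasDeg_twist d')

end GrothLib.ProjPic26
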