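import Groth.Agent.Lib.ProjIso26.Basic
import Groth.Agent.Lib.ProjPic26.Main
import Groth.Agent.Lib.Chow.Prod
import Groth.Agent.Lib.CurveMult.ProjSmooth
import Mathlib.AlgebraicGeometry.Geometrically.Integral

/-!
# Relative projective space and its fibres
-/

universe u

set_option backward.isDefEq.respectTransparency false
set_option maxHeartbeats 400000

open AlgebraicGeometry CategoryTheory CategoryTheory.Limits TopologicalSpace Opposite MvPolynomial
open GrothLib.Ample (res)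
open GrothLib.Ample.ProjMap
open GrothLib.ProjSp
open GrothLib.InvExt (mres)

noncomputable section

namespace GrothLib.ProjPic26

variable {n : ℕ}

/-- The projection of `P^n_ℤ ×_ℤ S`. -/
abbrev pr (n : ℕ) (S : Scheme.{u}) : CohB1.ProjSpaceOver n S ⟶ CohB1.ProjSpace n (ULift.{u} ℤ) :=
  pullback.fst (CohB1.ProjSpace.toSpec n (ULift.{u} ℤ)) (specULiftZIsTerminal.from S)

/-- The change of coefficients from `ℤ`. -/
def chi (n : ℕ) (R : Type u) [CommRing R] : CohB1.ProjSpace n R ⟶ CohB1.ProjSpace n (ULift.{u} ℤ) :=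
  (dataOfMorphism (𝟙 (CohB1.ProjSpace n R))
    (specULiftZIsTerminal.from _ : CohB1.ProjSpace n R ⟶ Spec (CommRingCat.of (ULift.{u} ℤ)))).map

theorem toProjSpace_chi (n : ℕ) (R : Type u) [CommRing R] :
    toProjSpace n R ≫ chi n R = pr n (Spec (CommRingCat.of R)) := by
  let p := pr n (Spec (CommRingCat.of R))
  let Dθ := dataOfMorphism p (CohB1.ProjSpaceOver.toBase n (Spec (CommRingCat.of R)))
  let q₀ : CohB1.ProjSpace n R ⟶ Spec (CommRingCat.of (ULift.{u} ℤ)) := specULiftZIsTerminal.from _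
  let Dχ := dataOfMorphism (𝟙 (CohB1.ProjSpace n R)) q₀
  have hle : ∀ k : ULift.{u} (Fin (n + 1)),
      (toProjSpace n R ≫ Dχ.map) ⁻¹ᵁ (pcoc n (ULift.{u} ℤ)).D k ≤ p ⁻¹ᵁ (pcoc n (ULift.{u} ℤ)).D k := fun k => by
    rw [Scheme.Hom.comp_preimage]
    exact le_of_eq ((congrArg (toProjSpace n R ⁻¹ᵁ ·) (Dχ.map_preimage k.down)).trans (Dθ.map_preimage k.down))
  refine ext_of_ratios _ _ (specULiftZIsTerminal.hom_ext _ _) hle fun k j => ?_
  obtain ⟨k⟩ := k
  show pullRatio (toProjSpace n R ≫ Dχ.map) k j = _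
  rw [pullRatio, ← Scheme.Hom.appLE_comp_appLE (toProjSpace n R) Dχ.map ((pcoc n (ULift.{u} ℤ)).D ⟨k⟩)
    ((pcoc n R).D ⟨k⟩) _ (Dχ.map_preimage k).ge (le_of_eq (Scheme.Hom.comp_preimage _ _ _ ▸
      congrArg (toProjSpace n R ⁻¹ᵁ ·) (Dχ.map_preimage k))), CommRingCat.comp_apply]
  refine (congrArg _ (Dχ.map_appLE_ratio k j le_rfl (Dχ.map_preimage k).ge)).trans ?_
  rw [GrothLib.Ample.res_self]
  refine (congrArg _ (?_ : _ = Proj.awayToSection (CohB1.polyGrading n R) (X k) (ratio k j))).trans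
    (Dθ.map_appLE_ratio k j (hle ⟨k⟩) _)
  show (Scheme.Hom.appLE (𝟙 (CohB1.ProjSpace n R)) _ _ _).hom _ = _
  simp [Scheme.Hom.appLE]
  rfl

theorem isPullback_chi (n : ℕ) (R : Type u) [CommRing R] :
    IsPullback (chi n R) (CohB1.ProjSpace.toSpec n R) (CohB1.ProjSpace.toSpec n (ULift.{u} ℤ))
      (specULiftZIsTerminal.from (Spec (CommRingCat.of R))) := by
  haveI := ProjIso26.isIso_toProjSpace n R
  refine (IsPullback.of_hasPullback (CohB1.ProjSpace.toSpec n (ULift.{u} ℤ))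
    (specULiftZIsTerminal.from (Spec (CommRingCat.of R)))).of_iso (asIso (toProjSpace n R)) (Iso.refl _)
    (Iso.refl _) (Iso.refl _) ?_ ?_ ?_ ?_
  · exact (Category.comp_id _).trans (toProjSpace_chi n R).symm
  · exact (Category.comp_id _).trans (toProjSpace_toSpec n R).symm
  · rw [Iso.refl_hom, Iso.refl_hom, Category.comp_id, Category.id_comp]
  · rw [Iso.refl_hom, Iso.refl_hom, Category.comp_id, Category.id_comp]

variable (n) in
theorem isPullback_toBase (S : Scheme.{u}) :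
    IsPullback (pr n S) (CohB1.ProjSpaceOver.toBase n S) (CohB1.ProjSpace.toSpec n (ULift.{u} ℤ))
      (specULiftZIsTerminal.from S) :=
  IsPullback.of_hasPullback _ _

/-- Projective space over a ring, as a base change of relative projective space. -/
theorem exists_isPullback_point (S : Scheme.{u}) {R : Type u} [CommRing R] (y : Spec (CommRingCat.of R) ⟶ S) :
    ∃ ω : CohB1.ProjSpace n R ⟶ CohB1.ProjSpaceOver n S, ω ≫ pr n S = chi n R ∧
      IsPullback ω (CohB1.ProjSpace.toSpec n R) (CohB1.ProjSpaceOver.toBase n S) y := by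
  let ω : CohB1.ProjSpace n R ⟶ CohB1.ProjSpaceOver n S :=
    pullback.lift (chi n R) (CohB1.ProjSpace.toSpec n R ≫ y) (specULiftZIsTerminal.hom_ext _ _)
  have h1 : ω ≫ pr n S = chi n R := pullback.lift_fst _ _ _
  have h2 : ω ≫ CohB1.ProjSpaceOver.toBase n S = CohB1.ProjSpace.toSpec n R ≫ y := pullback.lift_snd _ _ _
  refine ⟨ω, h1, IsPullback.of_right ?_ h2 (isPullback_toBase n S)⟩
  rw [h1, specULiftZIsTerminal.hom_ext (y ≫ specULiftZIsTerminal.from S) (specULiftZIsTerminal.from _)]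
  exact isPullback_chi n R

instance smooth_toBase (S : Scheme.{u}) : Smooth (CohB1.ProjSpaceOver.toBase n S) :=
  MorphismProperty.of_isPullback (isPullback_toBase n S) (CurveMult.smooth_toSpec n (ULift.{u} ℤ))

instance isProper_toBase' (S : Scheme.{u}) : IsProper (CohB1.ProjSpaceOver.toBase n S) :=
  Chow.isProper_toBase n S

instance geometricallyIntegral_toBase (S : Scheme.{u}) :
    GeometricallyIntegral (CohB1.ProjSpaceOver.toBase n S) := by
  rw [GeometricallyIntegral.eq_geometrically]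
  intro K _ y Z fst snd h
  obtain ⟨ω, -, hω⟩ := exists_isPullback_point (n := n) S y
  haveI : IsIntegral (CohB1.ProjSpace n K) := ProjDim.isIntegral_proj K n
  haveI : Nonempty Z := ⟨(hω.isoIsPullback _ _ h).hom (Classical.arbitrary (CohB1.ProjSpace n K))⟩
  exact isIntegral_of_isOpenImmersion (hω.isoIsPullback _ _ h).inv

/-- The pullback of `O(1)` along the change of coefficients has degree one. -/
theorem hasDeg_chi_pullback (n : ℕ) (R : Type u) [CommRing R] [IsDomain R] :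
    HasDeg ((Scheme.Modules.pullback (chi n R)).obj (Twist.twistProjSpace n (ULift.{u} ℤ) 1)) 1 := by
  let P := pcoc n (ULift.{u} ℤ)
  obtain ⟨φ⟩ := P.nonempty_pullback_iso (chi n R) (Ample.ProjMap.pcocIso n (ULift.{u} ℤ))
  let c := P.comap (chi n R)
  let Dχ := dataOfMorphism (𝟙 (CohB1.ProjSpace n R))
    (specULiftZIsTerminal.from _ : CohB1.ProjSpace n R ⟶ Spec (CommRingCat.of (ULift.{u} ℤ)))
  have hD : ∀ i : Fin (n + 1), c.D ⟨i⟩ = Dp R n i := fun i => Dχ.map_preimage i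
  refine hasDeg_of_iso φ.symm
    ⟨fun i => c.base 1 ⟨i⟩ (hD i).ge, fun i => c.isGen_base 1 ⟨i⟩ (hD i).ge, fun i j =>
      ⟨(pcoc n R).G ⟨i⟩ ⟨j⟩ (W2_le_left i j) (W2_le_right i j), ?_, by rw [evK_G, one_smul]⟩⟩
  have hi : W2 R n i j ≤ c.D ⟨i⟩ := (W2_le_left i j).trans (hD i).ge
  have hj : W2 R n i j ≤ c.D ⟨j⟩ := (W2_le_right i j).trans (hD j).ge
  have hG : c.G ⟨i⟩ ⟨j⟩ hi hj = (pcoc n R).G ⟨i⟩ ⟨j⟩ (W2_le_left i j) (W2_le_right i j) := by
    refine Eq.trans ?_ (g_pcoc ⟨i⟩ ⟨j⟩ (W2_le_left i j) (W2_le_right i j)).symm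
    have h := P.appLE_G (j := chi n R) ⟨i⟩ ⟨j⟩ (V := P.D ⟨i⟩ ⊓ P.D ⟨j⟩) inf_le_left inf_le_right
      (W := W2 R n i j) (le_inf hi hj)
    refine h.symm.trans ?_
    rw [g_pcoc]
    refine (GrothLib.Ample.appLE_res (chi n R) inf_le_left (le_inf hi hj) _).trans ?_
    refine (Dχ.map_appLE_ratio i j (W2_le_left i j) hi).trans ?_
    refine congrArg (res _) ?_
    show (Scheme.Hom.appLE (𝟙 (CohB1.ProjSpace n R)) _ _ _).hom _ = _
    simp [Scheme.Hom.appLE]
    rfl
  show c.sectRes (W2_le_right i j) (c.base 1 ⟨j⟩ (hD j).ge) =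
    (show Γ(CohB1.ProjSpace n R, W2 R n i j) from (pcoc n R).G ⟨i⟩ ⟨j⟩ (W2_le_left i j) (W2_le_right i j)) •
      c.sectRes (W2_le_left i j) (c.base 1 ⟨i⟩ (hD i).ge)
  rw [Ample.Cocycle.sectRes_base, Ample.Cocycle.sectRes_base, ← hG]
  refine (c.base_eq_smul_base 1 ⟨i⟩ ⟨j⟩ hi hj).trans ?_
  rw [pow_one]

theorem nonempty_chi_pullback_iso (n : ℕ) (R : Type u) [CommRing R] [IsDomain R] :
    Nonempty ((Scheme.Modules.pullback (chi n R)).obj (Twist.twistProjSpace n (ULift.{u} ℤ) 1) ≅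
      Twist.twistProjSpace n R 1) :=
  nonempty_iso_twist_of_hasDeg (hasDeg_chi_pullback n R)

end GrothLib.ProjPic26
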