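import Groth.Agent.Lib.ProjPic26.Over
import Groth.Agent.Lib.Seesaw26.TrivOpen
import Groth.Agent.Lib.CMReg.StructureMain
import Groth.Agent.Lib.PicThick26.Artinian
import Groth.Agent.Lib.GrTilde.Mul

/-!
# The Picard group of relative projective space over a connected base
-/

universe u

set_option backward.isDefEq.respectTransparency false
set_option maxHeartbeats 400000

open AlgebraicGeometry CategoryTheory CategoryTheory.Limits TopologicalSpace Opposite MvPolynomial
open GrothLib.Ample (Cocycle)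

noncomputable section

namespace GrothLib.ProjPic26

theorem h1_polyGrading (n : ℕ) (R : Type u) [CommRing R] (p : Proj (CohB1.polyGrading n R)) :
    ∃ f : MvPolynomial (Fin (n + 1)) R, f ∈ CohB1.polyGrading n R 1 ∧ f ∉ p.asHomogeneousIdeal := by
  obtain ⟨i, hi⟩ := (Ample.ProjMap.pcoc n R).exists_mem p
  exact ⟨X i.down, Ample.ProjMap.X_mem i.down, hi⟩

theorem isInvertible_twistProjSpace (n : ℕ) (R : Type u) [CommRing R] (d : ℤ) :
    PicF.IsInvertible (Twist.twistProjSpace n R d) :=
  GrTilde.isInvertible_twist (h1_polyGrading n R) d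

/-- The class of `O(d)`. -/
def tw (n : ℕ) (R : Type u) [CommRing R] (d : ℤ) : Cube.Pic (CohB1.ProjSpace n R) :=
  Cube.clsMod (isInvertible_twistProjSpace n R d)

theorem tw_add (n : ℕ) (R : Type u) [CommRing R] (a b : ℤ) : tw n R (a + b) = tw n R a * tw n R b := by
  rw [tw, tw, tw, ← Cube.clsMod_tensorMod, Cube.clsMod_eq_iff]
  exact ⟨(GrTilde.nonempty_twist_tensor_twist (h1_polyGrading n R) a b).some.symm⟩

theorem tw_eq_zpow (n : ℕ) (R : Type u) [CommRing R] (d : ℤ) : tw n R d = tw n R 1 ^ d := by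
  have h0 : tw n R 0 = 1 := by
    have h := tw_add n R 0 0
    rw [add_zero] at h
    exact mul_eq_left.mp h.symm
  induction d using Int.induction_on with
  | zero => rw [h0, zpow_zero]
  | succ i ih => rw [tw_add, ih, zpow_add_one]
  | pred i ih =>
    rw [zpow_sub_one, ← ih, eq_mul_inv_iff_mul_eq, ← tw_add, sub_add_cancel]

theorem pull_chi_tw (n : ℕ) (R : Type u) [CommRing R] [IsDomain R] (d : ℤ) :
    Cube.pull (chi n R) (tw n (ULift.{u} ℤ) d) = tw n R d := by
  have h1 : Cube.pull (chi n R) (tw n (ULift.{u} ℤ) 1) = tw n R 1 := by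
    rw [tw, tw, ← Cube.clsMod_pullback, Cube.clsMod_eq_iff]
    exact nonempty_chi_pullback_iso n R
  rw [tw_eq_zpow, map_zpow, h1, ← tw_eq_zpow]

/-- The Picard group of the spectrum of a field is trivial. -/
theorem pic_spec_field_eq_one (F : Type u) [Field F] (x : Cube.Pic (Spec (CommRingCat.of F))) : x = 1 := by
  obtain ⟨c, rfl⟩ := Quotient.exists_rep x
  let X := Spec (CommRingCat.of F)
  let ι : ((⊤ : X.Opens) : Scheme.{u}) ⟶ X := Scheme.Opens.ι ⊤
  have hM := c.isInvertible_twist 1
  obtain ⟨s, hs⟩ := InvExt.exists_gen_of_local (R := CommRingCat.of F) (c.twist 1) ⊤ fun z _ => by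
    obtain ⟨V, e, hz, he⟩ := InvExt.exists_gen_nhd hM z
    exact ⟨V, e, hz, le_top, he⟩
  obtain ⟨φ⟩ := InvExt.exists_iso_of_gen hs
  have h1 : Cube.pull ι (Cube.cls c) = 1 := by
    rw [← Cube.clsMod_eq hM (Iso.refl _), ← Cube.clsMod_pullback, Cube.clsMod_eq_one_iff]
    exact ⟨((Scheme.Modules.restrictFunctorIsoPullback ι).app _).symm ≪≫ φ⟩
  have h2 := congrArg (Cube.pull X.topIso.inv) h1
  rw [map_one, Cube.pull_comp, show X.topIso.inv ≫ ι = 𝟙 X from X.topIso.inv_hom_id, Cube.pull_id] at h2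
  exact h2

variable (r : ℕ) (S : Scheme.{u})

theorem isInvertible_twistOver (d : ℤ) : PicF.IsInvertible (Twist.twistOver r S d) :=
  Ample.isInvertible_pullback (pr r S) (isInvertible_twistProjSpace r (ULift.{u} ℤ) d)

theorem clsMod_twistOver (d : ℤ) :
    Cube.clsMod (isInvertible_twistOver r S d) = Cube.pull (pr r S) (tw r (ULift.{u} ℤ) d) :=
  Cube.clsMod_pullback (pr r S) (isInvertible_twistProjSpace r (ULift.{u} ℤ) d)

variable {r S}

/-- The class of `π^* L ⊗ O(d)`. -/
theorem clsMod_form {L : S.Modules} (hL : PicF.IsInvertible L) (d : ℤ) :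
    Cube.clsMod (Ample.isInvertible_tensorMod (Ample.isInvertible_pullback (CohB1.ProjSpaceOver.toBase r S) hL)
        (isInvertible_twistOver r S d)) =
      Cube.pull (CohB1.ProjSpaceOver.toBase r S) (Cube.clsMod hL) * Cube.pull (pr r S) (tw r (ULift.{u} ℤ) d) := by
  rw [Cube.clsMod_tensorMod (Ample.isInvertible_pullback _ hL) (isInvertible_twistOver r S d), clsMod_twistOver,
    Cube.clsMod_pullback _ hL]

/-- The comparison of a fibre with projective space over the residue field. -/
theorem exists_fiber_iso (r : ℕ) (S : Scheme.{u}) (y : S) :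
    ∃ (ω : CohB1.ProjSpace r (S.residueField y) ⟶ CohB1.ProjSpaceOver r S)
      (α : CohB1.ProjSpace r (S.residueField y) ≅ (CohB1.ProjSpaceOver.toBase r S).fiber y),
      ω ≫ pr r S = chi r (S.residueField y) ∧
      ω ≫ CohB1.ProjSpaceOver.toBase r S = CohB1.ProjSpace.toSpec r (S.residueField y) ≫ S.fromSpecResidueField y ∧
      α.hom ≫ (CohB1.ProjSpaceOver.toBase r S).fiberι y = ω := by
  obtain ⟨ω, hω1, hω⟩ := exists_isPullback_point (n := r) S (S.fromSpecResidueField y)
  exact ⟨ω, hω.isoPullback, hω1, hω.w, hω.isoPullback_hom_fst⟩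

theorem pull_point_form {y : S} {ω : CohB1.ProjSpace r (S.residueField y) ⟶ CohB1.ProjSpaceOver r S}
    (hω1 : ω ≫ pr r S = chi r (S.residueField y))
    (hω2 : ω ≫ CohB1.ProjSpaceOver.toBase r S = CohB1.ProjSpace.toSpec r (S.residueField y) ≫ S.fromSpecResidueField y)
    (x : Cube.Pic S) (d : ℤ) :
    Cube.pull ω (Cube.pull (CohB1.ProjSpaceOver.toBase r S) x * Cube.pull (pr r S) (tw r (ULift.{u} ℤ) d)) =
      tw r (S.residueField y) d := by
  rw [map_mul, Cube.pull_comp, Cube.pull_comp, hω1, hω2, ← Cube.pull_comp, pull_chi_tw]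
  have : Cube.pull (S.fromSpecResidueField y) x = 1 := by
    exact pic_spec_field_eq_one _ _
  exact (congrArg (fun t => Cube.pull (CohB1.ProjSpace.toSpec r (S.residueField y)) t * tw r (S.residueField y) d) this).trans
    (by rw [map_one, one_mul])

theorem fiberRank_h1_eq_zero (y : S) :
    CohIII.fiberRank (CohB1.ProjSpaceOver.toBase r S) (Coh.structureModule _) 1 y = 0 := by
  obtain ⟨ω, α, -, -, -⟩ := exists_fiber_iso r S y
  have h1 : Subsingleton (Coh.HH (CohB1.ProjSpace r (S.residueField y)) (Coh.structureModule _) 1) := by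
    obtain ⟨e⟩ := GrTilde.nonempty_structureModule_iso_twist_zero (CohB1.polyGrading r (S.residueField y))
    exact CMReg.subsingleton_of_iso e.symm (CMReg.subsingleton_HH_twist r le_rfl (by norm_num))
  have h2 := PicThick26.subsingleton_HH_structure_of_iso α.inv 1 h1
  haveI : Subsingleton (CohIII.fiberH (CohB1.ProjSpaceOver.toBase r S) (Coh.structureModule _) y 1) :=
    CMReg.subsingleton_of_iso (PicLoc.pullbackStructureIso _).symm h2
  exact Module.finrank_zero_of_subsingleton

/-- Invertible modules on relative projective space are pullbacks twisted by a degree. -/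
theorem exists_form [ConnectedSpace S] (N : (CohB1.ProjSpaceOver r S).Modules) (hN : PicF.IsInvertible N) :
    ∃ (L : S.Modules) (d : ℤ), PicF.IsInvertible L ∧
      Nonempty (N ≅ CohB1.tensorMod ((Scheme.Modules.pullback (CohB1.ProjSpaceOver.toBase r S)).obj L)
        (Twist.twistOver r S d)) := by
  obtain ⟨y₀⟩ := (inferInstance : Nonempty S)
  obtain ⟨ω, α, hω1, hω2, hα⟩ := exists_fiber_iso r S y₀
  obtain ⟨d, ⟨e⟩⟩ := exists_iso_twist (R := S.residueField y₀) (n := r) (Ample.isInvertible_pullback ω hN)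
  have hd : Cube.pull ω (Cube.clsMod hN) = tw r (S.residueField y₀) d := by
    rw [← Cube.clsMod_pullback, tw, Cube.clsMod_eq_iff]
    exact ⟨e⟩
  let L' := CohB1.tensorMod N (Twist.twistOver r S (-d))
  have hL' : PicF.IsInvertible L' := Ample.isInvertible_tensorMod hN (isInvertible_twistOver r S (-d))
  have hcls : Cube.clsMod hL' = Cube.clsMod hN * Cube.pull (pr r S) (tw r (ULift.{u} ℤ) (-d)) := by
    rw [Cube.clsMod_tensorMod hN (isInvertible_twistOver r S (-d)), clsMod_twistOver]
  have htriv : Nonempty ((Scheme.Modules.pullback ((CohB1.ProjSpaceOver.toBase r S).fiberι y₀)).obj L' ≅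
      Coh.structureModule ((CohB1.ProjSpaceOver.toBase r S).fiber y₀)) := by
    rw [← Cube.clsMod_eq_one_iff (Ample.isInvertible_pullback _ hL'), Cube.clsMod_pullback _ hL', hcls]
    have h := congrArg (Cube.pull α.inv) (show Cube.pull ω (Cube.clsMod hN *
        Cube.pull (pr r S) (tw r (ULift.{u} ℤ) (-d))) = 1 by
      rw [map_mul, hd, Cube.pull_comp, hω1, pull_chi_tw, ← tw_add, add_neg_cancel, tw_eq_zpow, zpow_zero])
    rw [map_one, Cube.pull_comp, ← hα, ← Category.assoc, Iso.inv_hom_id, Category.id_comp] at h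
    exact h
  obtain ⟨M, hM, ⟨φ⟩⟩ := Seesaw26.exists_base_of_h1_zero (CohB1.ProjSpaceOver.toBase r S)
    (fun y => fiberRank_h1_eq_zero y) L' hL' y₀ htriv
  refine ⟨M, d, hM, (Cube.clsMod_eq_iff hN (Ample.isInvertible_tensorMod
    (Ample.isInvertible_pullback _ hM) (isInvertible_twistOver r S d))).1 ?_⟩
  have hM' : Cube.clsMod (Ample.isInvertible_pullback (CohB1.ProjSpaceOver.toBase r S) hM) = Cube.clsMod hL' :=
    (Cube.clsMod_eq_iff _ _).2 ⟨φ.symm⟩
  rw [clsMod_form hM, ← Cube.clsMod_pullback, hM', hcls, mul_assoc, ← map_mul, ← tw_add, neg_add_cancel,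
    tw_eq_zpow, zpow_zero, map_one, mul_one]

/-- The presentation is unique. -/
theorem form_unique [Nonempty S] (hr : 1 ≤ r) {L L' : S.Modules} (hL : PicF.IsInvertible L)
    (hL' : PicF.IsInvertible L') {d d' : ℤ}
    (h : Nonempty (CohB1.tensorMod ((Scheme.Modules.pullback (CohB1.ProjSpaceOver.toBase r S)).obj L) (Twist.twistOver r S d) ≅
      CohB1.tensorMod ((Scheme.Modules.pullback (CohB1.ProjSpaceOver.toBase r S)).obj L') (Twist.twistOver r S d'))) :
    d = d' ∧ Nonempty (L ≅ L') := by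
  have hE := (Cube.clsMod_eq_iff (Ample.isInvertible_tensorMod
      (Ample.isInvertible_pullback (CohB1.ProjSpaceOver.toBase r S) hL) (isInvertible_twistOver r S d))
    (Ample.isInvertible_tensorMod
      (Ample.isInvertible_pullback (CohB1.ProjSpaceOver.toBase r S) hL') (isInvertible_twistOver r S d'))).2 h
  rw [clsMod_form hL, clsMod_form hL'] at hE
  obtain ⟨y₀⟩ := (inferInstance : Nonempty S)
  obtain ⟨ω, α, hω1, hω2, -⟩ := exists_fiber_iso r S y₀
  have hdd : d = d' := by
    have h1 := congrArg (Cube.pull ω) hE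
    rw [pull_point_form hω1 hω2, pull_point_form hω1 hω2, tw, tw, Cube.clsMod_eq_iff] at h1
    exact eq_of_twist_iso hr h1.some
  subst hdd
  refine ⟨rfl, Seesaw26.nonempty_iso_of_pullback_iso (CohB1.ProjSpaceOver.toBase r S) hL hL'
    ((Cube.clsMod_eq_iff (Ample.isInvertible_pullback _ hL) (Ample.isInvertible_pullback _ hL')).1 ?_)⟩
  rw [Cube.clsMod_pullback _ hL, Cube.clsMod_pullback _ hL']
  exact mul_right_cancel hE

end GrothLib.ProjPic26
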