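import Mathlib.Algebra.MvPolynomial.Division
import Mathlib.Algebra.MvPolynomial.Nilpotent
import Mathlib.RingTheory.Localization.FractionRing
import Mathlib.RingTheory.MvPolynomial.Homogeneous

/-!
# Laurent monomials in the fraction field of a polynomial ring
-/

universe u v

open MvPolynomial

noncomputable section

namespace GrothLib.ProjPic26

variable {R : Type u} [CommRing R] [IsDomain R] {σ : Type v}

/-- The fraction field of the polynomial ring. -/
abbrev Rat (R : Type u) [CommRing R] [IsDomain R] (σ : Type v) : Type max u v :=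
  FractionRing (MvPolynomial σ R)

/-- A variable in the fraction field. -/
def xv (l : σ) : Rat R σ := algebraMap (MvPolynomial σ R) _ (X l)

/-- A constant in the fraction field. -/
def con : R →+* Rat R σ := (algebraMap (MvPolynomial σ R) _).comp C

theorem xv_ne_zero (l : σ) : xv (R := R) l ≠ 0 := fun h =>
  X_ne_zero l ((IsFractionRing.injective (MvPolynomial σ R) (Rat R σ)) (h.trans (map_zero _).symm))

variable [Fintype σ]

/-- A Laurent monomial. -/
def mono (z : σ → ℤ) : Rat R σ := ∏ l, xv l ^ z l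

theorem mono_ne_zero (z : σ → ℤ) : mono (R := R) z ≠ 0 :=
  Finset.prod_ne_zero_iff.mpr fun l _ => zpow_ne_zero _ (xv_ne_zero l)

theorem mono_zero : mono (R := R) (0 : σ → ℤ) = 1 := by
  rw [mono]; simp

theorem mono_add (z w : σ → ℤ) : mono (R := R) (z + w) = mono z * mono w := by
  rw [mono, mono, mono, ← Finset.prod_mul_distrib]
  exact Finset.prod_congr rfl fun l _ => zpow_add₀ (xv_ne_zero l) _ _

theorem mono_sub (z w : σ → ℤ) : mono (R := R) (z - w) = mono z / mono w := by
  rw [eq_div_iff (mono_ne_zero w), ← mono_add, sub_add_cancel]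

theorem mono_single [DecidableEq σ] (i : σ) (a : ℤ) : mono (R := R) (Pi.single i a) = xv i ^ a := by
  rw [mono, Finset.prod_eq_single i (fun l _ hl => by rw [Pi.single_eq_of_ne hl, zpow_zero])
    (fun h => absurd (Finset.mem_univ i) h), Pi.single_eq_same]

theorem mono_zsmul (z : σ → ℤ) (d : ℤ) : mono (R := R) (d • z) = mono z ^ d := by
  simp only [mono, Pi.smul_apply, smul_eq_mul, ← Finset.prod_zpow, ← zpow_mul, mul_comm d]

/-- Laurent monomials are linearly independent. -/
theorem eq_of_con_mul_mono {c c' : R} (hc : c ≠ 0) {z w : σ → ℤ}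
    (h : con c * mono z = con c' * mono w) : z = w ∧ c = c' := by
  let s : σ →₀ ℕ := Finsupp.equivFunOnFinite.symm fun l => (z l - w l).toNat
  let t : σ →₀ ℕ := Finsupp.equivFunOnFinite.symm fun l => (w l - z l).toNat
  have hm : ∀ (a : R) (v : σ →₀ ℕ), algebraMap (MvPolynomial σ R) (Rat R σ) (monomial v a) =
      con a * mono (fun l => (v l : ℤ)) := fun a v => by
    rw [monomial_eq, map_mul, Finsupp.prod_fintype _ _ (fun l => pow_zero _), map_prod]
    simp only [mono, zpow_natCast, map_pow, xv, con, RingHom.comp_apply]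
  have he : (fun l => (s l : ℤ)) + w = (fun l => (t l : ℤ)) + z := funext fun l => by
    simp only [Pi.add_apply, s, t, Finsupp.coe_equivFunOnFinite_symm, Int.toNat_eq_max]
    omega
  have h2 : monomial s c = monomial t c' := by
    refine IsFractionRing.injective (MvPolynomial σ R) (Rat R σ) (mul_right_cancel₀ (mono_ne_zero w) ?_)
    rw [hm, hm, mul_assoc, mul_assoc, ← mono_add, ← mono_add, he, mono_add, mono_add, mul_left_comm, h,
      mul_left_comm]
  rcases (monomial_eq_monomial_iff s t c c').mp h2 with ⟨hst, hcc⟩ | ⟨h0, -⟩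
  · refine ⟨funext fun l => ?_, hcc⟩
    have hl : s l = t l := by rw [hst]
    simp only [s, t, Finsupp.coe_equivFunOnFinite_symm] at hl
    omega
  · exact absurd h0 hc

/-- A divisor of a product of powers of two variables is associated to such a product. -/
theorem exists_of_dvd_X_pow {i j : σ} {a : MvPolynomial σ R} (N M : ℕ)
    (h : a ∣ X i ^ N * X j ^ M) : ∃ (c : R) (p q : ℕ), IsUnit c ∧ a = C c * X i ^ p * X j ^ q := by
  induction N generalizing a with
  | zero =>
    rw [pow_zero, one_mul] at h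
    induction M generalizing a with
    | zero =>
      rw [pow_zero] at h
      obtain ⟨c, hc, rfl⟩ := isUnit_iff_eq_C_of_isReduced.mp (isUnit_of_dvd_one h)
      exact ⟨c, 0, 0, hc, by simp⟩
    | succ M ih =>
      obtain ⟨b, hb⟩ := h
      rcases (X_prime (i := j)).dvd_or_dvd (a := a) (b := b) ⟨X j ^ M, by rw [← hb, pow_succ']⟩ with
        ⟨a', rfl⟩ | ⟨b', rfl⟩
      · obtain ⟨c, p, q, hc, rfl⟩ := ih (a := a') ⟨b, mul_left_cancel₀ (X_ne_zero j)
          (by rw [← pow_succ', hb, mul_assoc])⟩
        exact ⟨c, p, q + 1, hc, by ring⟩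
      · exact ih ⟨b', mul_left_cancel₀ (X_ne_zero j) (by rw [← pow_succ', hb]; ring)⟩
  | succ N ih =>
    obtain ⟨b, hb⟩ := h
    rcases (X_prime (i := i)).dvd_or_dvd (a := a) (b := b) ⟨X i ^ N * X j ^ M, by rw [← hb]; ring⟩ with
      ⟨a', rfl⟩ | ⟨b', rfl⟩
    · obtain ⟨c, p, q, hc, rfl⟩ := ih (a := a') ⟨b, mul_left_cancel₀ (X_ne_zero i)
        (by rw [← mul_assoc (X i) a', ← hb]; ring)⟩
      exact ⟨c, p + 1, q, hc, by ring⟩
    · exact ih ⟨b', mul_left_cancel₀ (X_ne_zero i) (mul_left_comm (X i) a b' ▸ hb ▸ (by ring : X i * (X i ^ N * X j ^ M) = X i ^ (N + 1) * X j ^ M))⟩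

end GrothLib.ProjPic26
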