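import Groth.Agent.Lib.ProjPic26.Mono
import Groth.Agent.Lib.Ample.ProjSections
import Groth.Agent.Lib.GrTilde.QCoh

/-!
# Units on the standard opens of projective space over a domain
-/

universe u

set_option backward.isDefEq.respectTransparency false

open AlgebraicGeometry CategoryTheory TopologicalSpace Opposite MvPolynomial
open GrothLib.Ample (res)
open GrothLib.Ample.ProjTwist (ev)

noncomputable section

namespace GrothLib.ProjPic26

variable {R : Type u} [CommRing R] [IsDomain R] {n : ℕ}

local notation "S" => MvPolynomial (Fin (n + 1)) R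
local notation "P" => CohB1.polyGrading n R
local notation "K" => Rat R (Fin (n + 1))

variable (R n) in
/-- The generic point of projective space. -/
def genPt : ProjectiveSpectrum (CohB1.polyGrading n R) :=
    { asHomogeneousIdeal := ⊥
      isPrime := by rw [HomogeneousIdeal.toIdeal_bot]; exact Ideal.isPrime_bot
      not_irrelevant_le := fun h => by
        have hX : (X 0 : S) ∈ HomogeneousIdeal.irrelevant P := by
          rw [HomogeneousIdeal.mem_irrelevant_iff, GradedRing.proj_apply,
            DirectSum.decompose_of_mem_ne _ (Ample.ProjMap.X_mem 0) one_ne_zero]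
        exact X_ne_zero (0 : Fin (n + 1)) (by
          have h0 : (X 0 : S) ∈ (⊥ : HomogeneousIdeal P).toIdeal := h hX
          rwa [HomogeneousIdeal.toIdeal_bot, Ideal.mem_bot] at h0) }

theorem mem_basicOpen_genPt {f : S} (hf : f ≠ 0) : genPt R n ∈ Proj.basicOpen P f := by
  intro h
  have h0 : f ∈ (⊥ : HomogeneousIdeal P).toIdeal := h
  rw [HomogeneousIdeal.toIdeal_bot, Ideal.mem_bot] at h0
  exact hf h0

/-- The comparison of the generic local ring with the fraction field. -/
def toK : Twist.Loc P (genPt R n) →+* K :=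
  IsLocalization.lift (M := (genPt R n).asHomogeneousIdeal.toIdeal.primeCompl)
    (g := algebraMap S K) fun s => IsUnit.mk0 _ fun h => s.2 (by
      rw [(IsFractionRing.injective S K) (h.trans (map_zero _).symm)]
      exact Submodule.zero_mem _)

theorem toK_mk (a : S) (s : (genPt R n).asHomogeneousIdeal.toIdeal.primeCompl) :
    toK (Localization.mk a s) * algebraMap S K s.1 = algebraMap S K a := by
  rw [Localization.mk_eq_mk', toK, IsLocalization.lift_mk', mul_assoc]
  exact (congrArg (_ * ·) (IsUnit.liftRight_inv_mul (M := (genPt R n).asHomogeneousIdeal.toIdeal.primeCompl) (f := (algebraMap S K).toMonoidHom.comp (Submonoid.subtype _)) _ s)).trans (mul_one _)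

/-- The value of a section at the generic point, in the fraction field. -/
def evK {V : (Proj P).Opens} (h : genPt R n ∈ V) : Γ(Proj P, V) →+* K where
  toFun r := toK (ev ⟨genPt R n, h⟩ r)
  map_one' := by rw [Ample.ProjTwist.ev_one, map_one]
  map_mul' r r' := by rw [Ample.ProjTwist.ev_mul, map_mul]
  map_zero' := by
    rw [show ev ⟨genPt R n, h⟩ (0 : Γ(Proj P, V)) = 0 from HomogeneousLocalization.val_zero, map_zero]
  map_add' r r' := by
    rw [show ev ⟨genPt R n, h⟩ (r + r') = ev ⟨genPt R n, h⟩ r + ev ⟨genPt R n, h⟩ r' from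
      HomogeneousLocalization.val_add _ _, map_add]

theorem evK_res {V W : (Proj P).Opens} (hWV : W ≤ V) (h : genPt R n ∈ W) (r : Γ(Proj P, V)) :
    evK h (res hWV r) = evK (hWV h) r := rfl

theorem exists_evK_eq {e : ℕ} {f : S} (hf : f ∈ P e) (he : 0 < e) (hf0 : f ≠ 0)
    (g : Γ(Proj P, Proj.basicOpen P f)) :
    ∃ (k : ℕ) (b : S), b ∈ P (k • e) ∧
      evK (mem_basicOpen_genPt hf0) g * algebraMap S K (f ^ k) = algebraMap S K b ∧
      ∀ y : Proj.basicOpen P f, ev y g = Localization.mk b (⟨f ^ k, fun hm =>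
        y.2 (y.1.isPrime.mem_of_pow_mem k hm)⟩ : y.1.asHomogeneousIdeal.toIdeal.primeCompl) := by
  obtain ⟨k, b, hb, h⟩ := GrTilde.exists_ev_eq hf he g
  refine ⟨k, b, hb, ?_, h⟩
  show toK (ev ⟨genPt R n, mem_basicOpen_genPt hf0⟩ g) * _ = _
  rw [h]
  exact toK_mk b _

/-- A section on a basic open is determined by its value at the generic point. -/
theorem evK_injective {e : ℕ} {f : S} (hf : f ∈ P e) (he : 0 < e) (hf0 : f ≠ 0) :
    Function.Injective (evK (mem_basicOpen_genPt (R := R) hf0)) := by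
  intro g g' h
  obtain ⟨k, b, -, h1, h2⟩ := exists_evK_eq hf he hf0 g
  obtain ⟨l, b', -, h1', h2'⟩ := exists_evK_eq hf he hf0 g'
  have hbb : b * f ^ l = b' * f ^ k := IsFractionRing.injective S K (by
    rw [map_mul, map_mul, ← h1, ← h1', h]; ring)
  refine Ample.ProjTwist.ev_ext fun y => ?_
  rw [h2, h2', Localization.mk_eq_mk_iff, Localization.r_iff_exists]
  exact ⟨1, by simp only [OneMemClass.coe_one, one_mul]; linear_combination hbb⟩

theorem X_mul_X_mem (i j : Fin (n + 1)) : (X i * X j : S) ∈ P 2 :=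
  SetLike.mul_mem_graded (Ample.ProjMap.X_mem i) (Ample.ProjMap.X_mem j)

theorem X_mul_X_ne_zero (i j : Fin (n + 1)) : (X i * X j : S) ≠ 0 :=
  mul_ne_zero (X_ne_zero i) (X_ne_zero j)

variable (R n) in
/-- The overlap of two standard charts. -/
abbrev W2 (i j : Fin (n + 1)) : (Proj P).Opens := Proj.basicOpen P (X i * X j)

theorem genPt_mem_W2 (i j : Fin (n + 1)) : genPt R n ∈ W2 R n i j :=
  mem_basicOpen_genPt (X_mul_X_ne_zero i j)

/-- The exponent vector of the ratio `X j / X i`. -/
def δ (i j : Fin (n + 1)) : Fin (n + 1) → ℤ := Pi.single j 1 - Pi.single i 1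

theorem δ_self (i : Fin (n + 1)) : δ i i = 0 := sub_self _

theorem δ_add (i j k : Fin (n + 1)) : δ i j + δ j k = δ i k := by
  simp only [δ]; abel

theorem mono_δ (i j : Fin (n + 1)) : mono (R := R) (δ i j) = xv j / xv i := by
  rw [δ, mono_sub, mono_single, mono_single, zpow_one, zpow_one]

/-- A unit on an overlap is a constant times a power of the ratio of the coordinates. -/
theorem exists_eq_of_isUnit (i j : Fin (n + 1)) {u : Γ(Proj P, W2 R n i j)} (hu : IsUnit u) :
    ∃ (c : R) (m : ℤ), IsUnit c ∧ evK (genPt_mem_W2 i j) u = con c * mono (m • δ i j) := by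
  obtain ⟨u', huu⟩ := hu.exists_right_inv
  obtain ⟨k, b, hb, h1, -⟩ := exists_evK_eq (X_mul_X_mem i j) two_pos (X_mul_X_ne_zero i j) u
  obtain ⟨l, b', -, h1', -⟩ := exists_evK_eq (X_mul_X_mem i j) two_pos (X_mul_X_ne_zero i j) u'
  have hprod : evK (genPt_mem_W2 i j) u * evK (genPt_mem_W2 i j) u' = 1 := by rw [← map_mul, huu, map_one]
  have hbb : b * b' = (X i * X j) ^ (k + l) := IsFractionRing.injective S K (by
    rw [map_mul, ← h1, ← h1', pow_add, map_mul]
    linear_combination algebraMap S K ((X i * X j) ^ k) * algebraMap S K ((X i * X j) ^ l) * hprod)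
  obtain ⟨c, p, q, hc, rfl⟩ := exists_of_dvd_X_pow (k + l) (k + l) ⟨b', by rw [hbb, mul_pow]⟩
  have hpq : p + q = k • 2 := by
    refine IsHomogeneous.inj_right ?_ ((mem_homogeneousSubmodule _ _).mp hb)
      (mul_ne_zero (mul_ne_zero (C_ne_zero.mpr hc.ne_zero) (pow_ne_zero _ (X_ne_zero i)))
        (pow_ne_zero _ (X_ne_zero j)))
    simpa using (((isHomogeneous_C _ c).mul ((isHomogeneous_X R i).pow p)).mul ((isHomogeneous_X R j).pow q))
  refine ⟨c, (q : ℤ) - k, hc, ?_⟩
  rw [mono_zsmul, mono_δ]
  simp only [map_mul, map_pow] at h1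
  change _ * (xv i * xv j) ^ k = algebraMap S K (C c) * xv i ^ p * xv j ^ q at h1
  have hi := xv_ne_zero (R := R) i
  have hj := xv_ne_zero (R := R) j
  have hne : (xv (R := R) i * xv j) ^ k ≠ 0 := pow_ne_zero _ (mul_ne_zero hi hj)
  refine mul_right_cancel₀ hne (h1.trans ?_)
  show _ = algebraMap S K (C c) * _ * _
  have hp : (p : ℤ) = 2 * k - q := by
    have : p + q = k * 2 := by simpa using hpq
    omega
  simp only [← zpow_natCast]
  rw [mul_assoc, mul_assoc]
  congr 1
  rw [hp, div_zpow, mul_zpow, zpow_sub₀ hi, zpow_sub₀ hj, zpow_sub₀ hi,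
    show (2 * (k : ℤ)) = (k : ℤ) + k from two_mul _, zpow_add₀ hi]
  field_simp

end GrothLib.ProjPic26
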